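import Cfsg.Agent.Lib.TC.Core

/-!
# Loops for the kernel
-/

set_option autoImplicit false

namespace Cfsg.Agent.Lib.ThreeT.O83.Chk

open Cfsg.Agent.Lib.TC.Core

/-- The check of a property for all numbers below a bound. -/
noncomputable def allN (f : Nat → Bool) (n : Nat) : Bool :=
  Nat.rec true (fun j ih => andB (force j f) ih) n

theorem allN_spec {f : Nat → Bool} {n : Nat} (h : allN f n = true) : ∀ i, i < n → f i = true := by
  induction n with
  | zero => intro i hi; omega
  | succ n ih =>
    have h' : andB (force n f) (allN f n) = true := h
    rw [andB_eq_true, force_eq] at h'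
    intro i hi
    by_cases hi' : i < n
    · exact ih h'.2 i hi'
    · have e : i = n := by omega
      rw [e]
      exact h'.1

/-- The check of a property for all members of a list. -/
noncomputable def lAll (l : List Nat) (f : Nat → Bool) : Bool :=
  List.rec true (fun c _ ih => andB (f c) ih) l

theorem lAll_spec {l : List Nat} {f : Nat → Bool} (h : lAll l f = true) : ∀ c ∈ l, f c = true := by
  induction l with
  | nil => simp
  | cons c l ih =>
    have h' : andB (f c) (lAll l f) = true := h
    rw [andB_eq_true] at h'
    intro d hd
    rcases List.mem_cons.1 hd with rfl | hd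
    · exact h'.1
    · exact ih h'.2 d hd

/-- The search for a member of a list with a property. -/
noncomputable def lAny (l : List Nat) (f : Nat → Bool) : Bool :=
  List.rec false (fun c _ ih => Bool.rec ih true (f c)) l

theorem lAny_spec {l : List Nat} {f : Nat → Bool} (h : lAny l f = true) : ∃ c ∈ l, f c = true := by
  induction l with
  | nil => exact absurd h (by simp [lAny])
  | cons c l ih =>
    cases hc : f c with
    | true => exact ⟨c, by simp, hc⟩
    | false =>
      have h' : (Bool.rec (lAny l f) true (f c) : Bool) = true := h
      rw [hc] at h'
      obtain ⟨d, hd, h2⟩ := ih h'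
      exact ⟨d, List.mem_cons_of_mem _ hd, h2⟩

end Cfsg.Agent.Lib.ThreeT.O83.Chk
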