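import Cfsg.Agent.Lib.ThreeT.O83.Chk
import Cfsg.Agent.Lib.TC.D.Fi22a.Ok
import Cfsg.Agent.Lib.TC.D.Fi22Chain.Main

/-!
# The subgroup `⟨b, …, i⟩` of `Fi₂₂` is its own normalizer
-/

set_option autoImplicit false
set_option linter.unusedVariables false
set_option linter.style.haveILetI false
set_option linter.style.longLine false
set_option maxRecDepth 100000

namespace Cfsg.Agent.Lib.ThreeT.O83.Fi22N

open Cfsg.Agent.Lib.TC.Core Cfsg.Agent.Lib.TC.Enc Cfsg.Agent.Lib.TC.Pres Cfsg.Agent.Lib.TC.Perm Cfsg.Agent.Lib.TC.Main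
  Cfsg.Agent.Lib.TC.Chain
open Cfsg.Agent.Lib.TC.D.Fi22a.Tab Cfsg.Agent.Lib.TC.G.Fi22 Cfsg.Agent.Lib.TC.D.Fi22a.Ok
open Cfsg.Agent.Lib.ThreeT.O83.Chk

/-- The group. -/
abbrev Γ₂ := PresentedGroup Rel

/-- The subgroup. -/
abbrev H0 : Subgroup Γ₂ := subOf K Rel subs

/-- The letters of the subgroup. -/
def ls8 : List Nat := [1, 2, 3, 4, 5, 6, 7, 8]

theorem hfix : allN (fun p => Bool.rec (lAny ls8 fun c => Bool.not (Nat.beq (pt.T c p) p)) true (Nat.beq p 0)) 14080 = true := by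
  decide +kernel

theorem fix_only (p : Nat) (hp : p < 14080) (h0 : p ≠ 0) (h : ∀ c ∈ ls8, pt.T c p = p) : False := by
  have h1 := allN_spec hfix p hp
  have h2 : Nat.beq p 0 = false := by
    cases hb : Nat.beq p 0 with
    | true => exact absurd (Nat.eq_of_beq_eq_true hb) h0
    | false => rfl
  simp only [h2] at h1
  obtain ⟨c, hc, h3⟩ := lAny_spec h1
  rw [h c hc] at h3
  simp [Nat.beq_refl] at h3

theorem letter_mem {c : Nat} (hc : c ∈ ls8) : K.E Rel c ∈ H0 := by
  apply Subgroup.subset_closure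
  refine ⟨[c], ?_, by simp [prodA_cons]⟩
  revert c
  decide

/-- **The normalizer of the subgroup.** -/
theorem norm_H0 (g : Γ₂) (hg : ∀ h ∈ H0, g * h * g⁻¹ ∈ H0) : g ∈ H0 := by
  classical
  haveI := ok.npos
  obtain ⟨φ, hφ⟩ := ok.exists_action
  have hle := ok.le_stab φ hφ
  have hcard := Cfsg.Agent.Lib.TC.D.Fi22Chain.Main.simple_card.2
  haveI : Finite Γ₂ := Nat.finite_of_card_ne_zero (by
    show Nat.card (PresentedGroup Rel) ≠ 0
    rw [hcard]
    norm_num)
  have hst : stab0 φ ≤ H0 := by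
    have hi := ok.index_eq
    have hi0 : (subOf K Rel subs).index ≠ 0 := by
      rw [hi]
      exact ok.hG.hpos.ne'
    have hle2 : (stab0 φ).index ≤ pt.n := (Subgroup.index_antitone hle).trans_eq hi
    have h2 : (stab0 φ).index = pt.n :=
      index_eq_of_le φ _ le_rfl (ok.trans φ hφ) Subgroup.index_ne_zero_of_finite hle2
    have hEq : subOf K Rel subs = stab0 φ := by
      apply Subgroup.eq_of_le_of_card_ge hle
      have h3 := Subgroup.card_mul_index (subOf K Rel subs)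
      have h4 := Subgroup.card_mul_index (stab0 φ)
      rw [hi] at h3
      rw [h2] at h4
      have h5 : Nat.card (stab0 φ) * pt.n = Nat.card (subOf K Rel subs) * pt.n := by rw [h3, h4]
      exact (Nat.eq_of_mul_eq_mul_right ok.hG.hpos h5).le
    rw [← hEq]
  have hg' : ∀ h ∈ H0, g⁻¹ * h * g ∈ H0 := by
    have h1 : H0.map (MulAut.conj g).toMonoidHom ≤ H0 := by
      rintro _ ⟨h, hh, rfl⟩
      exact hg h hh
    have h2 : H0.map (MulAut.conj g).toMonoidHom = H0 :=
      Subgroup.eq_of_le_of_card_ge h1 (le_of_eq (Subgroup.card_map_of_injective (MulAut.conj g).injective).symm)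
    intro h hh
    rw [← h2] at hh
    obtain ⟨k, hk, rfl⟩ := hh
    have : g⁻¹ * (MulAut.conj g).toMonoidHom k * g = k := by
      show g⁻¹ * (g * k * g⁻¹) * g = k
      group
    rw [this]
    exact hk
  have hy : ∀ c ∈ ls8, pt.T c (φ g 0).1 = (φ g 0).1 := by
    intro c hc
    have hc' : c < K.k := by
      revert c
      decide
    have h1 := ok.hG.EP_apply (c := c) (by
      have hk : pt.k = K.k := ok.hPk
      rw [hk]
      exact hc') (φ g 0)
    rw [← h1, ← hφ c hc']
    have h2 : φ (K.E Rel c) (φ g 0) = φ g 0 := by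
      have h3 := (mem_stab0 φ _).1 (hle (hg' _ (letter_mem hc)))
      have h4 : φ (K.E Rel c) (φ g 0) = φ g (φ (g⁻¹ * K.E Rel c * g) 0) := by
        simp [map_mul, Equiv.Perm.mul_apply]
      rw [h4, h3]
    rw [h2]
  have hy0 : φ g 0 = 0 := by
    by_contra hne
    exact fix_only (φ g 0).1 (φ g 0).2 (fun h => hne (Fin.ext h)) hy
  exact hst ((mem_stab0 φ g).2 hy0)

end Cfsg.Agent.Lib.ThreeT.O83.Fi22N
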