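import Cfsg.Agent.Lib.ThreeT.O83.Abs

/-!
# The action of the orthogonal group in dimension eight on the pairs of vectors of norm one
-/

set_option autoImplicit false
set_option linter.unusedSectionVars false
set_option linter.unusedVariables false
set_option linter.style.longLine false
set_option linter.unusedSimpArgs false
set_option linter.unnecessarySimpa false
set_option linter.style.haveILetI false
set_option maxRecDepth 100000

namespace Cfsg.Agent.Lib.ThreeT.O83.Lin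

open Cfsg
open scoped Matrix

/-- The coordinates. -/
abbrev ι := Fin 4 ⊕ Fin 4

/-- The vectors. -/
abbrev V := ι → ZMod 3

/-- The form. -/
abbrev Q : V → ZMod 3 := Cfsg.quadFormPlus 4 (ZMod 3)

/-- The number of a coordinate. -/
def idx : ι → Nat
  | .inl i => i.val
  | .inr i => 4 + i.val

/-- A digit. -/
def dig (m k : Nat) : Nat := (m / 3 ^ k) % 3

theorem dig_lt (m k : Nat) : dig m k < 3 := Nat.mod_lt _ (by norm_num)

/-- The vector with a given code. -/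
def vecOf (m : Nat) : V := fun i => ((dig m (idx i) : Nat) : ZMod 3)

/-- The form, on codes. -/
def Qn (m : Nat) : Nat :=
  dig m 0 * dig m 4 + dig m 1 * dig m 5 + dig m 2 * dig m 6 + dig m 3 * dig m 7

theorem Q_vecOf (m : Nat) : Q (vecOf m) = ((Qn m : Nat) : ZMod 3) := by
  simp only [Q, Cfsg.quadFormPlus, Fin.sum_univ_four, vecOf, idx, Qn]
  norm_num

/-- The code of a vector. -/
def code (v : V) : Nat :=
  (v (.inl 0)).val + 3 * (v (.inl 1)).val + 9 * (v (.inl 2)).val + 27 * (v (.inl 3)).val +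
    81 * (v (.inr 0)).val + 243 * (v (.inr 1)).val + 729 * (v (.inr 2)).val + 2187 * (v (.inr 3)).val

theorem code_lt (v : V) : code v < 6561 := by
  have h : ∀ i, (v i).val < 3 := fun i => ZMod.val_lt (v i)
  have h0 := h (.inl 0)
  have h1 := h (.inl 1)
  have h2 := h (.inl 2)
  have h3 := h (.inl 3)
  have h4 := h (.inr 0)
  have h5 := h (.inr 1)
  have h6 := h (.inr 2)
  have h7 := h (.inr 3)
  simp only [code]
  omega

theorem vecOf_code (v : V) : vecOf (code v) = v := by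
  have h : ∀ i, (v i).val < 3 := fun i => ZMod.val_lt (v i)
  have h0 := h (.inl 0)
  have h1 := h (.inl 1)
  have h2 := h (.inl 2)
  have h3 := h (.inl 3)
  have h4 := h (.inr 0)
  have h5 := h (.inr 1)
  have h6 := h (.inr 2)
  have h7 := h (.inr 3)
  have key : ∀ i, dig (code v) (idx i) = (v i).val := by
    intro i
    rcases i with i | i
    · fin_cases i <;> simp [dig, idx, code] <;> omega
    · fin_cases i <;> simp [dig, idx, code] <;> omega
  funext i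
  simp only [vecOf, key, ZMod.natCast_val, ZMod.cast_id', id]

/-- The code of the opposite vector. -/
def negN (m : Nat) : Nat :=
  (3 - dig m 0) % 3 + 3 * ((3 - dig m 1) % 3) + 9 * ((3 - dig m 2) % 3) + 27 * ((3 - dig m 3) % 3) +
    81 * ((3 - dig m 4) % 3) + 243 * ((3 - dig m 5) % 3) + 729 * ((3 - dig m 6) % 3) + 2187 * ((3 - dig m 7) % 3)

theorem cast_neg_dig {d : Nat} (hd : d < 3) : (((3 - d) % 3 : Nat) : ZMod 3) = -(d : ZMod 3) := by
  interval_cases d <;> decide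

theorem neg_vecOf (m : Nat) : vecOf (negN m) = -vecOf m := by
  have h : ∀ k, dig m k < 3 := dig_lt m
  have h0 := h 0
  have h1 := h 1
  have h2 := h 2
  have h3 := h 3
  have h4 := h 4
  have h5 := h 5
  have h6 := h 6
  have h7 := h 7
  have key : ∀ i, dig (negN m) (idx i) = (3 - dig m (idx i)) % 3 := by
    intro i
    rcases i with i | i
    · fin_cases i <;> simp [dig, idx, negN] <;> omega
    · fin_cases i <;> simp [dig, idx, negN] <;> omega
  funext i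
  simp only [vecOf, key, Pi.neg_apply]
  exact cast_neg_dig (h _)

/-- The matrices of the letters. -/
def tbl : List (List (List Nat)) :=
  [[],
   [[1,0,0,0,0,0,0,0],[0,1,0,0,0,0,0,0],[0,0,1,0,0,0,0,0],[0,0,0,0,0,0,0,2],[0,0,0,0,1,0,0,0],[0,0,0,0,0,1,0,0],[0,0,0,0,0,0,1,0],[0,0,0,2,0,0,0,0]],
   [[1,0,0,1,2,0,0,1],[0,1,0,0,0,0,0,0],[0,0,1,0,0,0,0,0],[0,0,0,0,1,0,0,2],[0,0,0,0,1,0,0,0],[0,0,0,0,0,1,0,0],[0,0,0,0,0,0,1,0],[0,0,0,2,1,0,0,0]],
   [[0,0,0,0,2,0,0,0],[0,1,0,0,0,0,0,0],[0,0,1,0,0,0,0,0],[0,0,0,1,0,0,0,0],[2,0,0,0,0,0,0,0],[0,0,0,0,0,1,0,0],[0,0,0,0,0,0,1,0],[0,0,0,0,0,0,0,1]],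
   [[1,0,1,1,2,2,2,2],[0,1,1,1,2,2,2,2],[0,0,2,1,2,2,2,2],[0,0,1,2,2,2,2,2],[0,0,0,0,1,0,0,0],[0,0,0,0,0,1,0,0],[0,0,2,2,1,1,2,1],[0,0,2,2,1,1,1,2]],
   [[1,0,0,0,0,0,0,0],[0,0,0,0,0,2,0,0],[0,0,1,0,0,0,0,0],[0,0,0,1,0,0,0,0],[0,0,0,0,1,0,0,0],[0,2,0,0,0,0,0,0],[0,0,0,0,0,0,1,0],[0,0,0,0,0,0,0,1]],
   [[1,0,0,0,0,0,0,0],[0,1,2,1,0,2,1,2],[0,0,2,2,0,1,2,1],[0,0,2,2,0,2,1,2],[0,0,0,0,1,0,0,0],[0,0,0,0,0,1,0,0],[0,0,2,1,0,2,2,2],[0,0,1,2,0,1,2,2]],
   [[1,0,0,0,0,0,0,0],[0,1,0,0,0,0,0,0],[0,0,2,2,0,0,2,1],[0,0,2,2,0,0,1,2],[0,0,0,0,1,0,0,0],[0,0,0,0,0,1,0,0],[0,0,2,1,0,0,2,2],[0,0,1,2,0,0,2,2]],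
   [[1,0,2,0,2,0,2,0],[0,1,0,0,0,0,0,0],[0,0,0,0,2,0,2,0],[0,0,0,1,0,0,0,0],[0,0,0,0,1,0,0,0],[0,0,0,0,0,1,0,0],[0,0,2,0,2,0,0,0],[0,0,0,0,0,0,0,1]],
   [[1,0,0,0,0,0,0,0],[0,1,0,0,0,0,0,0],[0,0,0,0,0,0,2,0],[0,0,0,1,0,0,0,0],[0,0,0,0,1,0,0,0],[0,0,0,0,0,1,0,0],[0,0,2,0,0,0,0,0],[0,0,0,0,0,0,0,1]]]

/-- A row. -/
def row (c i : Nat) : List Nat := (tbl.getD c []).getD i []

/-- The matrix of a letter. -/
def M (c : Nat) : Matrix ι ι (ZMod 3) :=
  Matrix.of fun i j => ((((row c (idx i)).getD (idx j) 0 : Nat)) : ZMod 3)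

/-- The scalar product with a row, on codes. -/
def dotN (r : List Nat) (m : Nat) : Nat :=
  r.getD 0 0 * dig m 0 + r.getD 1 0 * dig m 1 + r.getD 2 0 * dig m 2 + r.getD 3 0 * dig m 3 +
    r.getD 4 0 * dig m 4 + r.getD 5 0 * dig m 5 + r.getD 6 0 * dig m 6 + r.getD 7 0 * dig m 7

/-- The action on codes. -/
def applyN (c m : Nat) : Nat :=
  dotN (row c 0) m % 3 + 3 * (dotN (row c 1) m % 3) + 9 * (dotN (row c 2) m % 3) + 27 * (dotN (row c 3) m % 3) +
    81 * (dotN (row c 4) m % 3) + 243 * (dotN (row c 5) m % 3) + 729 * (dotN (row c 6) m % 3) + 2187 * (dotN (row c 7) m % 3)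

theorem mulVec_vecOf (c m : Nat) : M c *ᵥ vecOf m = vecOf (applyN c m) := by
  have key : ∀ i, dig (applyN c m) (idx i) = dotN (row c (idx i)) m % 3 := by
    intro i
    generalize hr0 : dotN (row c 0) m = r0
    generalize hr1 : dotN (row c 1) m = r1
    generalize hr2 : dotN (row c 2) m = r2
    generalize hr3 : dotN (row c 3) m = r3
    generalize hr4 : dotN (row c 4) m = r4
    generalize hr5 : dotN (row c 5) m = r5
    generalize hr6 : dotN (row c 6) m = r6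
    generalize hr7 : dotN (row c 7) m = r7
    rcases i with i | i
    · fin_cases i <;> simp [dig, idx, applyN, hr0, hr1, hr2, hr3, hr4, hr5, hr6, hr7] <;> omega
    · fin_cases i <;> simp [dig, idx, applyN, hr0, hr1, hr2, hr3, hr4, hr5, hr6, hr7] <;> omega
  funext i
  simp only [vecOf, key, ZMod.natCast_mod]
  simp only [Matrix.mulVec, dotProduct, Fintype.sum_sum_type, Fin.sum_univ_four, M, Matrix.of_apply, vecOf, idx, dotN]
  push_cast
  norm_num
  ring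

/-- The Gram matrix. -/
def A : Matrix ι ι (ZMod 3) :=
  Matrix.of fun i j => if idx i + 4 = idx j ∨ idx j + 4 = idx i then 2 else 0

theorem Q_eq (v : V) : Q v = v ⬝ᵥ (A *ᵥ v) := by
  have h4 : (2 : ZMod 3) * 2 = 1 := by decide
  simp only [Q, Cfsg.quadFormPlus, dotProduct, Matrix.mulVec, Fintype.sum_sum_type, Fin.sum_univ_four,
    A, Matrix.of_apply, idx, Fin.val_zero, Fin.val_one, Fin.val_two]
  norm_num
  ring_nf
  have h5 : (4 : ZMod 3) = 1 := by decide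
  rw [h5]
  ring

theorem invol : ∀ c, c = 1 ∨ c = 2 ∨ c = 3 ∨ c = 4 ∨ c = 5 ∨ c = 6 ∨ c = 7 ∨ c = 8 ∨ c = 9 → M c * M c = 1 := by
  rintro c (rfl | rfl | rfl | rfl | rfl | rfl | rfl | rfl | rfl) <;> decide +kernel

theorem gram : ∀ c, c = 1 ∨ c = 2 ∨ c = 3 ∨ c = 4 ∨ c = 5 ∨ c = 6 ∨ c = 7 ∨ c = 8 ∨ c = 9 → (M c)ᵀ * A * M c = A := by
  rintro c (rfl | rfl | rfl | rfl | rfl | rfl | rfl | rfl | rfl) <;> decide +kernel

theorem Q_M {c : Nat} (hc : c = 1 ∨ c = 2 ∨ c = 3 ∨ c = 4 ∨ c = 5 ∨ c = 6 ∨ c = 7 ∨ c = 8 ∨ c = 9) (u : V) :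
    Q (M c *ᵥ u) = Q u := by
  have h : u ⬝ᵥ (((M c)ᵀ * A * M c) *ᵥ u) = (M c *ᵥ u) ⬝ᵥ (A *ᵥ (M c *ᵥ u)) := by
    rw [← Matrix.mulVec_mulVec, ← Matrix.mulVec_mulVec, Matrix.dotProduct_mulVec, Matrix.vecMul_transpose]
  rw [Q_eq, Q_eq, ← h, gram c hc]

/-- A letter as an isometry. -/
noncomputable def tau (c : Nat) (hc : c = 1 ∨ c = 2 ∨ c = 3 ∨ c = 4 ∨ c = 5 ∨ c = 6 ∨ c = 7 ∨ c = 8 ∨ c = 9) : O8 :=
  ⟨⟨M c, M c, invol c hc, invol c hc⟩, fun u _ => Q_M hc u⟩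

/-- The action of an isometry on vectors. -/
def app (r : O8) (v : V) : V := ((r : Matrix.GeneralLinearGroup ι (ZMod 3)).1) *ᵥ v

theorem app_one (v : V) : app 1 v = v := by
  show (1 : Matrix ι ι (ZMod 3)) *ᵥ v = v
  simp

theorem app_mul (r r' : O8) (v : V) : app (r * r') v = app r (app r' v) := by
  show (((r : Matrix.GeneralLinearGroup ι (ZMod 3)).1) * ((r' : Matrix.GeneralLinearGroup ι (ZMod 3)).1)) *ᵥ v = _
  rw [← Matrix.mulVec_mulVec]
  rfl

theorem app_neg (r : O8) (v : V) : app r (-v) = -app r v := Matrix.mulVec_neg _ _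

theorem Q_app (r : O8) (v : V) : Q (app r v) = Q v := r.2 v v

theorem app_tau {c : Nat} (hc : c = 1 ∨ c = 2 ∨ c = 3 ∨ c = 4 ∨ c = 5 ∨ c = 6 ∨ c = 7 ∨ c = 8 ∨ c = 9) (m : Nat) :
    app (tau c hc) (vecOf m) = vecOf (applyN c m) := mulVec_vecOf c m

/-- The action on the pairs of vectors of norm one. -/
theorem exists_A {P : Type*} (vec : P → V) (h1 : ∀ p, Q (vec p) = 1) (h2 : ∀ v, Q v = 1 → ∃ p, v = vec p ∨ v = -vec p)
    (h3 : ∀ p p', (vec p = vec p' ∨ vec p = -vec p') → p = p') :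
    ∃ A : O8 →* Equiv.Perm P, ∀ r p, app r (vec p) = vec (A r p) ∨ app r (vec p) = -vec (A r p) := by
  have hQ : ∀ (r : O8) p, Q (app r (vec p)) = 1 := fun r p => by rw [Q_app, h1]
  choose f hf using fun (r : O8) p => h2 _ (hQ r p)
  have hfin : ∀ (X : V) (a b : P), (X = vec a ∨ X = -vec a) → (X = vec b ∨ X = -vec b) → a = b := by
    intro X a b ha hb
    apply h3
    rcases ha with rfl | ha <;> rcases hb with hb | hb
    · exact Or.inl hb
    · exact Or.inr hb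
    · right
      rw [ha] at hb
      rw [← hb, neg_neg]
    · left
      rw [ha] at hb
      exact neg_injective hb
  let F : O8 →* Function.End P :=
    { toFun := fun r p => f r p
      map_one' := by
        funext p
        refine (hfin _ _ _ (hf 1 p) ?_)
        rw [app_one]
        exact Or.inl rfl
      map_mul' := by
        intro r r'
        funext p
        show f (r * r') p = f r (f r' p)
        refine hfin (app (r * r') (vec p)) _ _ (hf (r * r') p) ?_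
        rw [app_mul]
        rcases hf r' p with h4 | h4
        · rw [h4]
          exact hf r _
        · rw [h4, app_neg]
          rcases hf r (f r' p) with h5 | h5
          · rw [h5]
            exact Or.inr rfl
          · rw [h5, neg_neg]
            exact Or.inl rfl }
  exact ⟨F.toHomPerm, fun r p => hf r p⟩

end Cfsg.Agent.Lib.ThreeT.O83.Lin
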