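import Cfsg.Agent.Lib.ThreeT.O83.Chk
import Cfsg.Agent.Lib.ThreeT.O83.ZT
import Cfsg.Agent.Lib.ThreeT.O83.PosT
import Cfsg.Agent.Lib.ThreeT.O83.Lin
import Cfsg.Agent.Lib.TC.D.Fi23a.Tab

/-!
# The tables on the 31671 points
-/

set_option autoImplicit false
set_option linter.unusedVariables false
set_option linter.style.longLine false
set_option maxRecDepth 100000

namespace Cfsg.Agent.Lib.ThreeT.O83.Tab

open Cfsg.Agent.Lib.TC.Core Cfsg.Agent.Lib.TC.Enc Cfsg.Agent.Lib.TC.Perm
open Cfsg.Agent.Lib.TC.D.Fi23a.Tab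
open Cfsg.Agent.Lib.ThreeT.O83.Chk Cfsg.Agent.Lib.ThreeT.O83.Lin

/-- The colour. -/
noncomputable def col : Nat → Nat := cellF 5 31 36 68719476735 0 3 ZT.tree.get
/-- The parent letter. -/
noncomputable def par : Nat → Nat := cellF 5 31 36 68719476735 2 15 ZT.tree.get
/-- The depth. -/
noncomputable def dep : Nat → Nat := cellF 5 31 36 68719476735 6 63 ZT.tree.get
/-- The parent letter in the second forest. -/
noncomputable def par2 : Nat → Nat := cellF 5 31 36 68719476735 12 15 ZT.tree.get
/-- The depth in the second forest. -/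
noncomputable def dep2 : Nat → Nat := cellF 5 31 36 68719476735 16 63 ZT.tree.get
/-- The code of the vector of a point. -/
noncomputable def vt : Nat → Nat := cellF 5 31 36 68719476735 22 8191 ZT.tree.get
/-- The point of a vector. -/
noncomputable def pos : Nat → Nat := cellF 5 31 15 32767 0 32767 PosT.tree.get

/-- Nine letters. -/
def L9 : List Nat := [1, 2, 3, 4, 5, 6, 7, 8, 9]
/-- Eight letters. -/
def U8 : List Nat := [1, 2, 3, 4, 5, 6, 8, 9]
/-- The word of the transposition of the point `0`. -/
def zw : List Nat := (List.replicate 9 [1, 2, 3, 4, 5, 6, 8]).flatten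
/-- A word carrying the point of `a` to the point `q0`. -/
def sw0 : List Nat := [1, 2, 3, 4, 5, 6, 7, 8, 3, 2, 1, 4, 3, 5, 9, 8, 3, 2, 1, 4, 3, 2, 5, 4, 6, 5, 8, 3, 4, 9, 8, 3, 2, 1, 0]
/-- The word of the member of `q0`. -/
def sw : List Nat := sw0.reverse ++ [0] ++ sw0
/-- The roots of the forest. -/
def rootN : Nat → Nat
  | 0 => 0
  | 1 => 26337
  | 2 => 26337
  | _ => 11589

/-- Membership in a list. -/
noncomputable def lMem (c : Nat) (l : List Nat) : Bool := lAny l (Nat.beq c)

theorem lMem_spec {c : Nat} {l : List Nat} (h : lMem c l = true) : c ∈ l := by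
  obtain ⟨d, hd, h2⟩ := lAny_spec h
  rw [Nat.eq_of_beq_eq_true h2]
  exact hd

theorem chkU : allN (fun p => lAll L9 fun c => Nat.beq (col (pt.T c p)) (sw12 (col p))) 31671 = true := by
  decide +kernel

theorem chkS : allN (fun p => pt.walk (fun q => Nat.beq (col q) (sw02 (col p))) sw p) 31671 = true := by
  decide +kernel

theorem chkLt : allN (fun p => Nat.blt (col p) 4) 31671 = true := by
  decide +kernel

theorem chkF : allN (fun p => force (dep p) fun d =>
    Bool.rec (andB (lMem (par p) L9) (Nat.beq (Nat.succ (dep (pt.T (par p) p))) d)) (Nat.beq p (rootN (col p))) (Nat.beq d 0)) 31671 = true := by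
  decide +kernel

/-- The first part of the check of the second forest. -/
noncomputable def chk351a (p : Nat) : Bool :=
  Bool.rec true (Bool.rec (pt.walk (fun q => Bool.not (Nat.beq q p)) zw p) true (Nat.beq p 0)) (Nat.beq (col p) 0)

theorem chk351 : allN (fun p => force (dep2 p) fun d =>
    Bool.rec (Bool.rec (andB (lMem (par2 p) U8) (Nat.beq (Nat.succ (dep2 (pt.T (par2 p) p))) d)) (Nat.beq p 8004) (Nat.beq d 1))
      (chk351a p) (Nat.beq d 0)) 31671 = true := by
  decide +kernel

theorem chkFixK : allN (fun p => Bool.rec (Bool.rec (pt.walk (fun X => lAny U8 fun c => force (pt.T c p) fun q =>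
      andB (Bool.not (Nat.beq q p)) (Bool.not (Nat.beq q X))) zw p) true (Nat.beq p 0)) true (Nat.beq (col p) 3)) 31671 = true := by
  decide +kernel

/-- The check of a point and its vector. -/
noncomputable def lin1 (p m : Nat) : Bool :=
  andB (Nat.blt m 6561) (andB (Nat.beq (Nat.mod (Qn m) 3) 1) (andB (Nat.beq (pos m) p) (andB (Nat.beq (pos (negN m)) p)
    (lAll L9 fun c => force (applyN c m) fun m' => force (vt (pt.T c p)) fun w => Bool.rec (Nat.beq m' (negN w)) true (Nat.beq m' w)))))

theorem chkLin : allN (fun p => Bool.rec true (force (vt p) (lin1 p)) (Nat.beq (col p) 0)) 31671 = true := by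
  decide +kernel

/-- The check of a vector. -/
noncomputable def lin2 (m : Nat) : Bool :=
  Bool.rec true (force (pos m) fun p => andB (Nat.blt p 31671) (andB (Nat.beq (col p) 0) (Bool.rec (Nat.beq (vt p) (negN m)) true (Nat.beq (vt p) m))))
    (Nat.beq (Nat.mod (Qn m) 3) 1)

theorem chkLin2 : allN lin2 6561 = true := by
  decide +kernel

theorem count0 : countAcc col 0 0 31671 0 = 1080 := by
  decide +kernel

/-- The colours other than the last one. -/
noncomputable def isR (p : Nat) : Nat := Bool.rec 0 1 (Nat.beq (col p) 3)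

theorem countY : countAcc isR 0 0 31671 0 = 3240 := by
  decide +kernel

end Cfsg.Agent.Lib.ThreeT.O83.Tab
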